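import Mathlib
import Groth.Agent.Lib.Helper3.IrrConnB
import Groth.Agent.Lib.Helper3.GeomFibBC
import Groth.Agent.Lib.Helper1.GIrrK
import Groth.Agent.Lib.Helper1.GRedGlobal

/-! # The locus of geometrically pointwise integral fibres is locally constructible. -/

set_option autoImplicit false
set_option linter.style.haveILetI false
universe u

namespace Groth.Agent.H3.GPILocus

open AlgebraicGeometry CategoryTheory CategoryTheory.Limits Topology

variable {X S : Scheme.{u}} (f : X ⟶ S)

/-- the locus where the two counts agree is locally constructible. -/
theorem isLocallyConstructible_count_eq [LocallyOfFinitePresentation f] [QuasiCompact f]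
    [QuasiSeparated f] :
    IsLocallyConstructible {s : S | MoreMor.nGeomIrredComp f s = MoreMor.nGeomConnComp f s} := by
  refine Groth.Agent.H1.GIrr.isLocallyConstructible_of_fp
    (fun {X S : Scheme.{u}} (f : X ⟶ S) =>
      {y : S | MoreMor.nGeomIrredComp f y = MoreMor.nGeomConnComp f y}) ?_ ?_ f
  · intro X S X' S' f f' g' g hc
    ext y'
    simp only [Set.mem_ofPred_eq, Set.mem_preimage]
    rw [Groth.Agent.H3.GeomFibBC.nGeomIrredComp_baseChange f f' g' g hc y',
      Groth.Agent.H3.GeomFibBC.nGeomConnComp_baseChange f f' g' g hc y']
  · intro X S _ f _ _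
    have h := Groth.Agent.H1.GIrr.isConstructible_preimage_of_noetherian f
      (fun p : ℕ∞ × ℕ∞ => (p.1 = p.2 : Prop)) True
    convert h using 1
    ext y
    simp [Groth.Agent.H1.GIrr.cnt]

section Pt

variable {k : Type u} [Field k] {Y : Scheme.{u}} (g : Y ⟶ Spec (CommRingCat.of k))

/-- comparison of the base change to the algebraic closure of the separable closure with the base
change to the separable closure. -/
theorem exists_comparison :
    ∃ q : FBase.bc g (AlgebraicClosure (SeparableClosure k)) ⟶
        pullback g (Spec.map (CommRingCat.ofHom (algebraMap k (SeparableClosure k)))),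
      IsPullback q (pullback.snd _ _) (pullback.snd _ _)
        (Spec.map (CommRingCat.ofHom (algebraMap (SeparableClosure k)
          (AlgebraicClosure (SeparableClosure k))))) := by
  have hcomp : Spec.map (CommRingCat.ofHom (algebraMap k (AlgebraicClosure (SeparableClosure k)))) =
      Spec.map (CommRingCat.ofHom (algebraMap (SeparableClosure k)
          (AlgebraicClosure (SeparableClosure k)))) ≫
        Spec.map (CommRingCat.ofHom (algebraMap k (SeparableClosure k))) := by
    rw [← Spec.map_comp, ← CommRingCat.ofHom_comp]
    congr 2
  have big : IsPullback (FBase.bcπ g (AlgebraicClosure (SeparableClosure k)))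
      (FBase.bcStr g (AlgebraicClosure (SeparableClosure k))) g
      (Spec.map (CommRingCat.ofHom (algebraMap (SeparableClosure k)
          (AlgebraicClosure (SeparableClosure k)))) ≫
        Spec.map (CommRingCat.ofHom (algebraMap k (SeparableClosure k)))) :=
    Groth.Agent.H3.GeomFibBC.isPullback_congr_bot (IsPullback.of_hasPullback _ _) hcomp
  let q : FBase.bc g (AlgebraicClosure (SeparableClosure k)) ⟶
        pullback g (Spec.map (CommRingCat.ofHom (algebraMap k (SeparableClosure k)))) :=
    pullback.lift (FBase.bcπ g _) (FBase.bcStr g _ ≫ Spec.map (CommRingCat.ofHom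
      (algebraMap (SeparableClosure k) (AlgebraicClosure (SeparableClosure k))))) big.w
  refine ⟨q, ?_⟩
  have hq1 : q ≫ pullback.fst _ _ = FBase.bcπ g _ := pullback.lift_fst _ _ _
  have hq2 : q ≫ pullback.snd _ _ = FBase.bcStr g _ ≫ Spec.map (CommRingCat.ofHom
      (algebraMap (SeparableClosure k) (AlgebraicClosure (SeparableClosure k)))) :=
    pullback.lift_snd _ _ _
  exact IsPullback.of_right (Groth.Agent.H3.GeomFibBC.isPullback_congr_top big hq1.symm) hq2
    (IsPullback.of_hasPullback _ _)

/-- pointwise criterion: everywhere geometrically pointwise integral iff geometrically reduced and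
the numbers of irreducible and connected components of the base change to a separable closure
agree. -/
theorem forall_gpi_iff [LocallyOfFiniteType g] [QuasiCompact g] :
    (∀ x : Y, FBase.IsGeomPtIntegralAt g x) ↔
      GeometricallyReduced g ∧
        (irreducibleComponents ↥(pullback g (Spec.map (CommRingCat.ofHom
          (algebraMap k (SeparableClosure k)))))).encard =
        ENat.card (_root_.ConnectedComponents ↥(pullback g (Spec.map (CommRingCat.ofHom
          (algebraMap k (SeparableClosure k)))))) := by
  rw [Groth.Agent.H3.IrrConn.main (Ω := AlgebraicClosure (SeparableClosure k)) g]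
  refine and_congr Iff.rfl ?_
  obtain ⟨q, hq⟩ := exists_comparison g
  have hgi : GeometricallyIrreducible (Spec.map (CommRingCat.ofHom (algebraMap (SeparableClosure k)
      (AlgebraicClosure (SeparableClosure k))))) :=
    Groth.Agent.H3.GeomFibBC.geometricallyIrreducible_SpecMap_sepClosed (SeparableClosure k)
      (AlgebraicClosure (SeparableClosure k))
  have hgc : GeometricallyConnected (Spec.map (CommRingCat.ofHom (algebraMap (SeparableClosure k)
      (AlgebraicClosure (SeparableClosure k))))) :=
    Groth.Agent.H3.GeomFibBC.geometricallyConnected_SpecMap_sepClosed (SeparableClosure k)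
      (AlgebraicClosure (SeparableClosure k))
  have huo : UniversallyOpen (Spec.map (CommRingCat.ofHom (algebraMap (SeparableClosure k)
      (AlgebraicClosure (SeparableClosure k))))) :=
    Groth.Agent.H3.FBaseComp.universallyOpen_SpecMap (SeparableClosure k)
      (AlgebraicClosure (SeparableClosure k))
  haveI : GeometricallyIrreducible q :=
    MorphismProperty.of_isPullback (P := @GeometricallyIrreducible) hq.flip hgi
  haveI : GeometricallyConnected q :=
    MorphismProperty.of_isPullback (P := @GeometricallyConnected) hq.flip hgc
  haveI : UniversallyOpen q :=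
    MorphismProperty.of_isPullback (P := @UniversallyOpen) hq.flip huo
  haveI : LocallyOfFiniteType (FBase.bcStr g (AlgebraicClosure (SeparableClosure k))) := by
    unfold FBase.bcStr; exact MorphismProperty.pullback_snd _ _ inferInstance
  haveI : QuasiCompact (FBase.bcStr g (AlgebraicClosure (SeparableClosure k))) := by
    unfold FBase.bcStr; exact MorphismProperty.pullback_snd _ _ inferInstance
  haveI : IsLocallyNoetherian (FBase.bc g (AlgebraicClosure (SeparableClosure k))) :=
    LocallyOfFiniteType.isLocallyNoetherian (FBase.bcStr g (AlgebraicClosure (SeparableClosure k)))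
  haveI : CompactSpace (FBase.bc g (AlgebraicClosure (SeparableClosure k))) :=
    QuasiCompact.compactSpace_of_compactSpace
      (FBase.bcStr g (AlgebraicClosure (SeparableClosure k)))
  haveI : IsNoetherian (FBase.bc g (AlgebraicClosure (SeparableClosure k))) := {}
  have hfin : (irreducibleComponents ↥(FBase.bc g (AlgebraicClosure (SeparableClosure k)))).Finite :=
    TopologicalSpace.NoetherianSpace.finite_irreducibleComponents
  haveI : Finite ↥(irreducibleComponents ↥(FBase.bc g (AlgebraicClosure (SeparableClosure k)))) :=
    hfin.to_subtype
  haveI : Finite (_root_.ConnectedComponents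
      ↥(FBase.bc g (AlgebraicClosure (SeparableClosure k)))) :=
    Finite.of_surjective _ Groth.Agent.H3.IrrConn.compMap_surjective
  have e1 := Set.encard_congr (q.irreducibleComponentsEquiv q.isOpenMap)
  have e2 := ENat.card_congr (q.connectedComponentsHomeomorph q.isOpenMap).toEquiv
  rw [← e1, ← e2, ENat.card_eq_coe_natCard, ← hfin.cast_ncard_eq, ← Nat.card_coe_set_eq,
    Nat.cast_inj]

end Pt

/-- **local constructibility of the locus of geometrically pointwise integral fibres.** -/
theorem isLocallyConstructible_setOf_gpi [LocallyOfFinitePresentation f] [QuasiCompact f]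
    [QuasiSeparated f] :
    IsLocallyConstructible {s : S |
      ∀ x : ↥(f.fiber s), FBase.IsGeomPtIntegralAt (f.fiberToSpecResidueField s) x} := by
  have h1 := Groth.Agent.H1.GRedGlobal.isLocallyConstructible_grLocus f
  have h2 := isLocallyConstructible_count_eq f
  have h := h1.inter h2
  convert h using 1
  ext s
  have i1 : LocallyOfFiniteType (f.fiberToSpecResidueField s) := by
    unfold Scheme.Hom.fiberToSpecResidueField
    exact MorphismProperty.pullback_snd (P := @LocallyOfFiniteType) _ _ inferInstance
  have i2 : QuasiCompact (f.fiberToSpecResidueField s) := by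
    unfold Scheme.Hom.fiberToSpecResidueField
    exact MorphismProperty.pullback_snd (P := @QuasiCompact) _ _ inferInstance
  exact @forall_gpi_iff (S.residueField s) _ _ (f.fiberToSpecResidueField s) i1 i2

end Groth.Agent.H3.GPILocus
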